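import Groth.Agent.TF7.Quasi.Basic
import Groth.Agent.TF7.Iterate.Main
import Groth.Agent.S18853
import Groth.Agent.S18855

/-!
# The quasistable extension on the closed fibre
-/

set_option autoImplicit false
set_option linter.style.haveILetI false
set_option backward.isDefEq.respectTransparency.types false
set_option backward.isDefEq.respectTransparency false
set_option maxHeartbeats 2000000

universe u

open CategoryTheory CategoryTheory.Limits AlgebraicGeometry Opposite TopologicalSpace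
open Groth.Agent.OmegaLib Groth.Agent.Coherent Groth.Agent.EulerLib

noncomputable section

namespace Groth.Agent.TF7

theorem exists_stable_index_mono {α : Type*} [Finite α] [PartialOrder α] (Y : ℕ → α) (hY : ∀ n, Y n ≤ Y (n + 1)) :
    ∃ N, ∀ k, Y (N + k) = Y N := by
  obtain ⟨a, ⟨N, rfl⟩, ha⟩ := (Set.toFinite (Set.range Y)).exists_maximal ⟨_, 0, rfl⟩
  have hle : Monotone Y := monotone_nat_of_le_succ hY
  exact ⟨N, fun k => (ha ⟨_, rfl⟩ (hle (Nat.le_add_right N k))).antisymm (hle (Nat.le_add_right N k))⟩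

variable {R : Type u} [CommRing R] [IsDomain R] [IsDiscreteValuationRing R] {X : Scheme.{u}}
  {f : X ⟶ Spec (CommRingCat.of R)} [Flat f] [IsProper f] {Xs : Scheme.{u}}
  [Xs.Over (Spec (CommRingCat.of (IsLocalRing.ResidueField R)))] {i : Xs ⟶ X} [IsReduced Xs]
  {Xg : Scheme.{u}} [Xg.Over (Spec (CommRingCat.of (FractionRing R)))] {j : Xg ⟶ X}

local notation "κ" => IsLocalRing.ResidueField R
local notation "qs" => Xs ↘ Spec (CommRingCat.of (IsLocalRing.ResidueField R))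
local notation "qg" => Xg ↘ Spec (CommRingCat.of (FractionRing R))
local notation "Pi" => Scheme.Modules.pullback i
local notation "Pj" => Scheme.Modules.pullback j

theorem semistable_step {M N GY : Xs.Modules} {π : M ⟶ GY} {Y : Set Xs} [IsProper qs]
    (hpure : ∀ C ∈ irreducibleComponents (Xs : Type u), topologicalKrullDim C = 1)
    {r : ℕ} (hr : 0 < r) {E : Xs.Modules} (hE : FlatMod.IsFinLocFreeOfRank r E)
    (hM : TFOne.IsSemistable Xs κ qs M E r) (h0 : (r : ℤ) * Curv2.euler κ Xs M + Curv2.deg κ Xs E r = 0)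
    (S : Seq M N GY π) (hN : TFOne.IsTF1 Xs N) (hY : TFOne.IsQuotOn Xs M Y GY π) (hYc : IsClosed Y)
    (hYs : VecSt.IsSubcurve Xs Y) (hY0 : TFOne.rBeta Xs κ qs Y hYc E r GY = 0) :
    TFOne.IsSemistable Xs κ qs N E r := by
  haveI := isNoetherian_of_proper (X := Xs) κ
  refine ⟨hN, fun Z hZ hZs _ G p hG => ?_⟩
  obtain ⟨hWc, GW, πW, hGW⟩ := exists_quot_components κ hM.1 (fun C => C ⊆ Y ∩ Z)
  obtain ⟨GU, πU, hGU⟩ := exists_quot_subcurve κ hM.1 (hYc.union hZ) (isSubcurve_union hYs hZs)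
  have mW : ∀ η ∈ genericPoints (Xs : Type u),
      η ∈ ⋃₀ {C | C ∈ irreducibleComponents (Xs : Type u) ∧ C ⊆ Y ∩ Z} ↔ η ∈ Y ∧ η ∈ Z := fun η hη => by
    rw [mem_sUnion_components hη, closure_subset_iff_mem (hYc.inter hZ), Set.mem_inter_iff]
  have hle := (S.rBeta_le κ hpure hr hE (leOne_of_isRkOne hM.1.2.2) hY hYc hZ hWc (hYc.union hZ) hG hGW hGU mW
    fun η _ => Iff.rfl).1
  have h2 := rBeta_nonneg κ hE hM h0 (hYc.union hZ) (isSubcurve_union hYs hZs) hGU
  have h1 : 0 ≤ TFOne.rBeta Xs κ qs _ hWc E r GW := by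
    by_cases hh : ∃ η ∈ genericPoints (Xs : Type u), η ∈ ⋃₀ {C | C ∈ irreducibleComponents (Xs : Type u) ∧ C ⊆ Y ∩ Z}
    · exact rBeta_nonneg κ hE hM h0 hWc (isSubcurve_components hh) hGW
    · have hn : ∀ η ∈ genericPoints (Xs : Type u),
          η ∉ ⋃₀ {C | C ∈ irreducibleComponents (Xs : Type u) ∧ C ⊆ Y ∩ Z} := fun η hη h => hh ⟨η, hη, h⟩
      rw [rBeta_eq κ _ _ (⋃₀ {C | C ∈ irreducibleComponents (Xs : Type u) ∧ C ⊆ Y ∩ Z}),
        euler_noGeneric κ hGW hn, degOn_noGeneric κ hpure hE hWc hn]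
      simp
  rw [hY0] at hle
  linarith

/-- **Quasistable extension on the closed fibre.** -/
theorem exists_quasistable_special
    (hsq : IsPullback i qs f (Spec.map (CommRingCat.ofHom (IsLocalRing.residue R))))
    (hpure : ∀ C ∈ irreducibleComponents (Xs : Type u), topologicalKrullDim C = 1)
    (hgi : ∀ (C : Set Xs) (hC : C ∈ irreducibleComponents (Xs : Type u)), GeometricallyIntegral
      (VecSt.subschι Xs C (isClosed_of_mem_irreducibleComponents C hC) ≫ qs))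
    (hgen : IsPullback j qg f (Spec.map (CommRingCat.ofHom (algebraMap R (FractionRing R)))))
    (I E : X.Modules) (r : ℕ) (hr : 0 < r) (hE : FlatMod.IsFinLocFreeOfRank r E) (d : ℤ)
    (hI : Good f i j I d I) (hEd : Curv2.deg κ Xs ((Pi).obj E) r = -(r : ℤ) * d)
    (σ : Spec (CommRingCat.of R) ⟶ X) (hσ : σ ≫ f = 𝟙 _) (x₀ : Xs) (hx₀ : i x₀ = σ (IsLocalRing.closedPoint R))
    [IsDomain (Xs.presheaf.stalk x₀)]
    (σg : Spec (CommRingCat.of (FractionRing R)) ⟶ Xg) (hσg : σg ≫ qg = 𝟙 _)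
    (hσgj : σg ≫ j = Spec.map (CommRingCat.ofHom (algebraMap R (FractionRing R))) ≫ σ)
    (hIg : TFOne.FibQuasistableAlong qg ((Pj).obj I) ((Pj).obj E) σg hσg r) :
    ∃ J, Good f i j I d J ∧ TFOne.IsQuasistableAtPt Xs κ qs ((Pi).obj J) ((Pi).obj E) r x₀ := by
  by_contra hcon
  haveI : IsProper qs := MorphismProperty.of_isPullback hsq inferInstance
  haveI := isNoetherian_of_proper (X := Xs) κ
  have hE' := GrassLib.isFinLocFreeOfRank_pullback i hE
  have h0 : ∀ {J}, Good f i j I d J →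
      (r : ℤ) * Curv2.euler κ Xs ((Pi).obj J) + Curv2.deg κ Xs ((Pi).obj E) r = 0 := fun hJ => by
    rw [hJ.chi, hEd]; ring
  have hIs : TFOne.FibSemistable qg ((Pj).obj I) ((Pj).obj E) r := fun Ω _ _ t Y g qY h => by
    let y : Spec (CommRingCat.of Ω) ⟶ Y := h.lift (t ≫ σg) (𝟙 _) (by
      rw [Category.assoc, hσg, Category.comp_id, Category.id_comp])
    exact (hIg Ω t Y g qY h y (h.lift_fst _ _ _) (h.lift_snd _ _ _)).1
  obtain ⟨J₀, hJ₀, hs₀⟩ := exists_semistable_special hsq hpure hgi hgen I E r hr hE d hI hEd hIs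
  obtain ⟨ξ, hξ, hξx⟩ := exists_genericPoint_specializes x₀
  let W : Set Xs := closure {ξ}
  have hW : W ∈ irreducibleComponents (Xs : Type u) := hξ
  have hthrough : ∀ {T : Set Xs}, VecSt.IsSubcurve Xs T → IsClosed T → (x₀ ∈ T ↔ W ⊆ T) := by
    intro T hTs hT
    refine ⟨fun hx => ?_, fun h => h (specializes_iff_mem_closure.1 hξx)⟩
    obtain ⟨A, hA, -, rfl⟩ := hTs
    obtain ⟨C, hC, hxC⟩ := hx
    have hg := (hA hC).1.isGenericPoint_genericPoint (isClosed_of_mem_irreducibleComponents C (hA hC))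
    have hCg : (hA hC).1.genericPoint ∈ genericPoints Xs :=
      show closure _ ∈ irreducibleComponents Xs by rw [hg.def]; exact hA hC
    have he := eq_of_specializes_of_isDomain hCg hξ (hg.specializes hxC) hξx
    show closure {ξ} ⊆ _
    rw [← he, hg.def]
    exact Set.subset_sUnion_of_mem hC
  have hex : ∀ S : {J : X.Modules // Good f i j I d J ∧ TFOne.IsSemistable Xs κ qs ((Pi).obj J) ((Pi).obj E) r},
      ∃ (Y : Set Xs) (hY : IsClosed Y) (G : Xs.Modules) (π : (Pi).obj S.1 ⟶ G), VecSt.IsSubcurve Xs Y ∧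
        Y ≠ Set.univ ∧ W ⊆ Y ∧ TFOne.IsQuotOn Xs ((Pi).obj S.1) Y G π ∧
        TFOne.rBeta Xs κ qs Y hY ((Pi).obj E) r G = 0 ∧
        ∀ (T : Set Xs) (hT : IsClosed T), VecSt.IsSubcurve Xs T → W ⊆ T → ∀ (G' : Xs.Modules)
          (π' : (Pi).obj S.1 ⟶ G'), TFOne.IsQuotOn Xs ((Pi).obj S.1) T G' π' →
            TFOne.rBeta Xs κ qs T hT ((Pi).obj E) r G' = 0 → Y ⊆ T := by
    intro S
    refine exists_min_zero κ hpure hE' S.2.2 (h0 S.2.1) hW ?_
    by_contra hno
    exact hcon ⟨S.1, S.2.1, S.2.2, fun Z hZ hZs hne hxZ G π hG => not_le.1 fun hle =>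
      hno ⟨Z, hZ, G, π, hZs, hne, (hthrough hZs hZ).1 hxZ, hG, hle⟩⟩
  choose Yf hYf Gf πf hYsf hYnef hWYf hGf hzero hminf using hex
  let next : {J : X.Modules // Good f i j I d J ∧ TFOne.IsSemistable Xs κ qs ((Pi).obj J) ((Pi).obj E) r} →
      {J : X.Modules // Good f i j I d J ∧ TFOne.IsSemistable Xs κ qs ((Pi).obj J) ((Pi).obj E) r} := fun S =>
    ⟨_, S.2.1.step f i j hgen hsq (hGf S), by
      haveI := (hGf S).1
      obtain ⟨hp, ⟨Sq⟩⟩ := setup f i hsq S.1 (πf S) (IY := kernel ((Scheme.Modules.pullbackPushforwardAdjunction i).unit.app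
        S.1 ≫ (Scheme.Modules.pushforward i).map (πf S))) rfl
      exact semistable_step hpure hr hE' S.2.2 (h0 S.2.1) Sq (S.2.1.step f i j hgen hsq (hGf S)).tf (hGf S) (hYf S)
        (hYsf S) (hzero S)⟩
  let S := fun n => next^[n] ⟨J₀, hJ₀, hs₀⟩
  have hS : ∀ n, S (n + 1) = next (S n) := fun n => Function.iterate_succ_apply' next n _
  have hkey : ∀ n T, T = next (S n) → Yf (S n) ⊆ Yf T := by
    intro n T hT
    subst hT
    exact Groth.Agent.S18853.result R X f Xs i hsq hpure hgi (S n).1 (S n).2.1.coh (S n).2.1.flat (S n).2.1.tf E r hr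
      hE d (S n).2.1.chi hEd (S n).2.2 (Yf (S n)) (hYf _) (hYsf _) (Gf _) (πf _) (hGf _) _ rfl W hW (hWYf _) (hzero _)
      (hminf _) (Yf (next (S n))) (hYf _) (hYsf _) (hWYf _) (Gf _) (πf (next (S n))) (hGf (next (S n))) (hzero _)
      (hminf (next (S n)))
  have hfinT : Finite {T : Set Xs // VecSt.IsSubcurve Xs T} := by
    refine Set.finite_coe_iff.2 ((NoetherianSpace.finite_irreducibleComponents (α := Xs)).powerset.image
      (fun A : Set (Set Xs) => Set.sUnion A) |>.subset ?_)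
    rintro _ ⟨A, hA, -, rfl⟩
    exact ⟨A, hA, rfl⟩
  obtain ⟨N, hN⟩ := exists_stable_index_mono
    (fun n => (⟨Yf (S n), hYsf _⟩ : {T : Set Xs // VecSt.IsSubcurve Xs T})) fun n => hkey n _ (hS n)
  let Y := Yf (S N)
  let In : ℕ → X.Modules := fun k => (S (N + k)).1
  have hY : ∀ k, Yf (S (N + k)) = Y := fun k => congrArg Subtype.val (hN k)
  have hG : ∀ k, TFOne.IsQuotOn Xs ((Pi).obj (In k)) Y (Gf (S (N + k))) (πf (S (N + k))) := fun k =>
    hY k ▸ hGf (S (N + k))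
  have hβ : ∀ k, TFOne.rBeta Xs κ qs Y (hYf _) ((Pi).obj E) r (Gf (S (N + k))) = 0 := fun k => by
    refine Eq.trans ?_ (hzero (S (N + k)))
    simp only [hY k]
  have hmin : ∀ k (T : Set Xs) (hT : IsClosed T), VecSt.IsSubcurve Xs T → W ⊆ T → ∀ (G' : Xs.Modules)
      (π' : (Pi).obj (In k) ⟶ G'), TFOne.IsQuotOn Xs ((Pi).obj (In k)) T G' π' →
        TFOne.rBeta Xs κ qs T hT ((Pi).obj E) r G' = 0 → Y ⊆ T := fun k => hY k ▸ hminf (S (N + k))
  let Y' : Set Xs := ⋃₀ {C | C ∈ irreducibleComponents (Xs : Type u) ∧ ¬ C ⊆ Y}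
  have hG' : ∀ k, ∃ (G : Xs.Modules) (π : (Pi).obj (In k) ⟶ G), TFOne.IsQuotOn Xs ((Pi).obj (In k)) Y' G π :=
    fun k => (exists_quot_components κ (S (N + k)).2.1.tf fun C => ¬ C ⊆ Y).2
  choose G' π' hG' using hG'
  have hstep : ∀ k, In (k + 1) = kernel ((Scheme.Modules.pullbackPushforwardAdjunction i).unit.app (In k) ≫
      (Scheme.Modules.pushforward i).map (πf (S (N + k)))) := fun k => congrArg Subtype.val (hS (N + k))
  have hdec : ∀ k, IsIso (biprod.lift (πf (S (N + (k + 1)))) (π' (k + 1))) := fun k =>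
    (Groth.Agent.S18855.result R X f Xs i hsq hpure hgi (In k) (S (N + k)).2.1.coh (S (N + k)).2.1.flat
      (S (N + k)).2.1.tf E r hr hE d (S (N + k)).2.1.chi hEd (S (N + k)).2.2 Y (hYf _) (hYsf _) (Gf (S (N + k)))
      (πf _) (hG k) (In (k + 1)) (hstep k) (hYnef _) W hW (hWYf _) (hβ k) (hmin k) Y (hYf _) (hYsf _) (hWYf _)
      (Gf (S (N + (k + 1)))) (πf _) (hG (k + 1)) (hβ (k + 1)) (hmin (k + 1)) Y' rfl
      (exists_quot_components κ (S (N + k)).2.1.tf fun C => ¬ C ⊆ Y).1 (Gf (S (N + (k + 1)))) (G' (k + 1)) (πf _)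
      (π' (k + 1)) (hG (k + 1)) (hG' (k + 1))).1 rfl
  have hmY' : ∀ η ∈ genericPoints (Xs : Type u), η ∈ Y' ↔ η ∉ Y := fun η hη => by
    rw [mem_sUnion_components hη, closure_subset_iff_mem (hYf _)]
  obtain ⟨Ω, _, _, φ, Yg, g, qY, hφ, hYg, Q, θ, hQ, hθ, hχQ, -, hiso, hinj⟩ := exists_generic_quotient f i hsq E r hE In
    (S (N + 0)).2.1.coh (S (N + 0)).2.1.flat (S (N + 0)).2.1.tf Y Y' hmY' (fun k => Gf (S (N + k))) G'
    (fun k => πf (S (N + k))) π' hG hG' hstep hdec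
  letI : Yg.Over (Spec (CommRingCat.of Ω)) := ⟨qY⟩
  obtain ⟨hred, hdim, hprop⟩ := generic_fibre_props f hsq hpure hgi hYg
  haveI := hred
  haveI : IsProper (Yg ↘ Spec (CommRingCat.of Ω)) := hprop
  haveI := hθ
  obtain ⟨l, hl, hlsq⟩ := exists_lift_generic f hgen φ hφ hYg
  subst hl
  let ψ := Spec.map (CommRingCat.ofHom (IsFractionRing.lift (K := FractionRing R) hφ))
  let y : Spec (CommRingCat.of Ω) ⟶ Yg := hlsq.lift (ψ ≫ σg) (𝟙 _) (by
    rw [Category.assoc, hσg, Category.comp_id, Category.id_comp])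
  have hy : y ≫ l ≫ j = Spec.map (CommRingCat.ofHom φ) ≫ σ := by
    rw [← Category.assoc, hlsq.lift_fst, Category.assoc, hσgj, ← Category.assoc, ← Spec.map_comp,
      ← CommRingCat.ofHom_comp]
    congr 3
    exact RingHom.ext fun a => IsFractionRing.lift_algebraMap hφ a
  have hss := hIg Ω _ Yg l qY hlsq y (hlsq.lift_fst _ _ _) (hlsq.lift_snd _ _ _)
  obtain ⟨e⟩ := (S (N + 0)).2.1.gen
  have hss' := isQuasistableAtPt_congr Ω ((Scheme.Modules.pullback l).mapIso e.symm ≪≫ pullFactor rfl (In 0))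
    (pullFactor rfl E) hss
  have hYgen : ∀ η ∈ genericPoints (Xs : Type u), η ⤳ x₀ → η ∈ Y := fun η hη hs => by
    rw [eq_of_specializes_of_isDomain hη hξ hs hξx]
    exact hWYf _ (subset_closure rfl)
  have hne : ¬ IsIso θ := fun h => hYnef (S N) (by
    haveI : IsIso (πf (S (N + 0))) := hiso h
    refine Set.eq_univ_of_forall fun x => ?_
    obtain ⟨η, hη, hs⟩ := exists_genericPoint_specializes x
    refine hs.mem_closed (hYf _) (by_contra fun hn => ?_)
    obtain ⟨e'⟩ := (S (N + 0)).2.1.tf.2.2 η hη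
    have h1 : e'.symm 1 = 0 := stalk_injective (πf (S (N + 0))) η
      ((stalk_zero_of_notMem (hG 0) hn _).trans (map_zero _).symm)
    exact one_ne_zero ((e'.apply_symm_apply 1).symm.trans (by rw [h1, map_zero])))
  have hpos := euler_tensor_pos Ω hdim (GrassLib.isFinLocFreeOfRank_pullback (l ≫ j) hE) hss' hQ θ
    (hinj σ hσ x₀ hx₀ hYgen y hy (hlsq.lift_snd _ _ _)) hne
  rw [hχQ, ← rBeta_eq_euler_tensor κ (dim_le_one_of_pure hpure) hE' (leOne_of_isRkOne (S (N + 0)).2.1.tf.2.2)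
    (hYf _) (hG 0), hβ 0] at hpos
  exact lt_irrefl _ hpos

end Groth.Agent.TF7
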