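import Groth.Agent.TF7.Quasi.Basic

/-!
# Quasistability on the geometric fibres
-/

set_option autoImplicit false
set_option linter.style.haveILetI false
set_option backward.isDefEq.respectTransparency.types false
set_option backward.isDefEq.respectTransparency false
set_option maxHeartbeats 1000000

universe u

open CategoryTheory CategoryTheory.Limits AlgebraicGeometry Opposite TopologicalSpace
open Groth.Agent.OmegaLib Groth.Agent.Coherent Groth.Agent.EulerLib

noncomputable section

namespace Groth.Agent.TF7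

/-- Quasistability at a point ascends. -/
theorem isQuasistableAtPt_pullback {k Ω : Type u} [Field k] [Field Ω] {Z Y : Scheme.{u}} [IsReduced Z] [IsReduced Y]
    [Z.Over (Spec (CommRingCat.of k))] [IsProper (Z ↘ Spec (CommRingCat.of k))]
    {qY : Y ⟶ Spec (CommRingCat.of Ω)} [IsProper qY] {g : Y ⟶ Z} {φ : k →+* Ω}
    (hY : IsPullback g qY (Z ↘ Spec (CommRingCat.of k)) (Spec.map (CommRingCat.ofHom φ)))
    (hgi : ∀ (C : Set Z) (hC : C ∈ irreducibleComponents (Z : Type u)), GeometricallyIntegral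
      (VecSt.subschι Z C (isClosed_of_mem_irreducibleComponents C hC) ≫ (Z ↘ Spec (CommRingCat.of k))))
    (hdim : topologicalKrullDim Z ≤ 1) (hdimY : topologicalKrullDim Y ≤ 1)
    {r : ℕ} {E : Z.Modules} (hE : FlatMod.IsFinLocFreeOfRank r E) {M : Z.Modules} {p : Y}
    (hM : TFOne.IsQuasistableAtPt Z k (Z ↘ Spec (CommRingCat.of k)) M E r (g p)) :
    TFOne.IsQuasistableAtPt Y Ω qY ((Scheme.Modules.pullback g).obj M) ((Scheme.Modules.pullback g).obj E) r p := by
  haveI := isNoetherian_of_proper (X := Z) k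
  refine ⟨isSemistable_pullback hY hgi hdim hdimY hE hM.1, fun W hW hWs hne hp G' π' hG' => ?_⟩
  haveI := (flat_of_field_extension hY).1
  haveI := (flat_of_field_extension hY).2
  obtain ⟨T, hTs, rfl, hTu⟩ := preimage_subcurve hY hgi hW hWs
  have hT : IsClosed T := isClosed_of_isSubcurve' hTs
  obtain ⟨G, π, hG⟩ := exists_quot_subcurve k hM.1.1 hT hTs
  rw [rBeta_pullback hY hdim hdimY hE hM.1.1 hT hG hW hG']
  exact hM.2 T hT hTs (fun h => hne (hTu h)) hp G π hG

variable {R : Type u} [CommRing R] [IsDomain R] [IsDiscreteValuationRing R] {X : Scheme.{u}}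
  {f : X ⟶ Spec (CommRingCat.of R)} [Flat f] [IsProper f] {Xs : Scheme.{u}}
  [Xs.Over (Spec (CommRingCat.of (IsLocalRing.ResidueField R)))] {i : Xs ⟶ X} [IsReduced Xs]
  {Xg : Scheme.{u}} [Xg.Over (Spec (CommRingCat.of (FractionRing R)))] {j : Xg ⟶ X}

local notation "κ" => IsLocalRing.ResidueField R
local notation "qs" => Xs ↘ Spec (CommRingCat.of (IsLocalRing.ResidueField R))
local notation "qg" => Xg ↘ Spec (CommRingCat.of (FractionRing R))

theorem fibQuasistableAlong_of_good (hsq : IsPullback i qs f (Spec.map (CommRingCat.ofHom (IsLocalRing.residue R))))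
    (hpure : ∀ C ∈ irreducibleComponents (Xs : Type u), topologicalKrullDim C = 1)
    (hgi : ∀ (C : Set Xs) (hC : C ∈ irreducibleComponents (Xs : Type u)), GeometricallyIntegral
      (VecSt.subschι Xs C (isClosed_of_mem_irreducibleComponents C hC) ≫ qs))
    (hgen : IsPullback j qg f (Spec.map (CommRingCat.ofHom (algebraMap R (FractionRing R)))))
    {I J E : X.Modules} {r : ℕ} (hE : FlatMod.IsFinLocFreeOfRank r E) {d : ℤ} (hJ : Good f i j I d J)
    (σ : Spec (CommRingCat.of R) ⟶ X) (hσ : σ ≫ f = 𝟙 _) (x₀ : Xs) (hx₀ : i x₀ = σ (IsLocalRing.closedPoint R))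
    (σg : Spec (CommRingCat.of (FractionRing R)) ⟶ Xg) (hσg : σg ≫ qg = 𝟙 _)
    (hσgj : σg ≫ j = Spec.map (CommRingCat.ofHom (algebraMap R (FractionRing R))) ≫ σ)
    (hs : TFOne.IsQuasistableAtPt Xs κ qs ((Scheme.Modules.pullback i).obj J) ((Scheme.Modules.pullback i).obj E) r x₀)
    (hIg : TFOne.FibQuasistableAlong qg ((Scheme.Modules.pullback j).obj I) ((Scheme.Modules.pullback j).obj E) σg hσg r) :
    TFOne.FibQuasistableAlong f J E σ hσ r := by
  intro Ω _ _ t Y g qY hY y hyg hyq
  haveI : IsProper qs := MorphismProperty.of_isPullback hsq inferInstance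
  haveI := isNoetherian_of_proper (X := Xs) κ
  obtain ⟨hred, hdim, hprop⟩ := generic_fibre_props f hsq hpure hgi hY
  haveI := hred
  haveI := hprop
  letI : Y.Over (Spec (CommRingCat.of Ω)) := ⟨qY⟩
  haveI : IsProper (Y ↘ Spec (CommRingCat.of Ω)) := hprop
  haveI : IsClosedImmersion i := (exists_uniformizer f i hsq).1
  rcases fibre_cases hsq hgen hY with ⟨ψ, l, hl, hlsq⟩ | ⟨ψ, l, hl, hlsq⟩
  · subst hl
    refine isQuasistableAtPt_congr Ω (pullFactor rfl J) (pullFactor rfl E)
      (isQuasistableAtPt_pullback hlsq hgi (dim_le_one_of_pure hpure) hdim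
        (GrassLib.isFinLocFreeOfRank_pullback i hE) ?_)
    suffices h : l (y (IsLocalRing.closedPoint Ω)) = x₀ by rwa [h]
    apply i.isClosedEmbedding.injective
    have h1 : i (l (y (IsLocalRing.closedPoint Ω))) = σ (t (IsLocalRing.closedPoint Ω)) := by
      rw [← Scheme.Hom.comp_apply, ← Scheme.Hom.comp_apply, ← Scheme.Hom.comp_apply, hyg]
    rw [h1, hx₀]
    refine congrArg σ ?_
    have e : y ≫ l ≫ i ≫ f = t := by
      calc y ≫ l ≫ i ≫ f = (y ≫ l ≫ i) ≫ f := by simp
        _ = t := by rw [hyg, Category.assoc, hσ, Category.comp_id]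
    rw [← e, Scheme.Hom.comp_apply, Scheme.Hom.comp_apply, Scheme.Hom.comp_apply]
    exact (mem_range_iff f i hsq _).1 ⟨_, rfl⟩
  · subst hl
    obtain ⟨e⟩ := hJ.gen
    have hy : y ≫ l = Spec.map (CommRingCat.ofHom ψ) ≫ σg := by
      have ht : t = Spec.map (CommRingCat.ofHom ψ) ≫ Spec.map (CommRingCat.ofHom (algebraMap R (FractionRing R))) := by
        rw [← cancel_epi (𝟙 (Spec (CommRingCat.of Ω))), ← hyq, Category.assoc, Category.assoc, ← hY.w,
          Category.assoc, hgen.w, ← Category.assoc l, hlsq.w, Category.assoc]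
      refine hgen.hom_ext ?_ ?_
      · rw [Category.assoc, hyg, Category.assoc, hσgj, ← Category.assoc, ← ht]
      · rw [Category.assoc, hlsq.w, ← Category.assoc, hyq, Category.id_comp, Category.assoc, hσg, Category.comp_id]
    exact isQuasistableAtPt_congr Ω ((Scheme.Modules.pullback l).mapIso e.symm ≪≫ pullFactor rfl J) (pullFactor rfl E)
      (hIg Ω _ Y l qY hlsq y hy hyq)

end Groth.Agent.TF7
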