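import Groth.Agent.TF7.Fibre.Basic
import Groth.Agent.VarietyLib.SmoothStalk
import Groth.Agent.CAlgH3.RegularLocal

/-!
# Quasistability
-/

set_option autoImplicit false
set_option linter.style.haveILetI false
set_option backward.isDefEq.respectTransparency.types false
set_option backward.isDefEq.respectTransparency false

universe u

open CategoryTheory CategoryTheory.Limits AlgebraicGeometry Opposite TopologicalSpace
open Groth.Agent.OmegaLib Groth.Agent.Coherent Groth.Agent.EulerLib Groth.Agent.VarietyLib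

noncomputable section

namespace Groth.Agent.TF7

variable {X : Scheme.{u}} [IsReduced X] (k : Type u) [Field k] [X.Over (Spec (CommRingCat.of k))]
  [IsProper (X ↘ Spec (CommRingCat.of k))]

local notation "St" => DerSch.stalkFunctor X

/-- A quotient dominates, in twisted Euler characteristic, its torsion-free part. -/
theorem exists_quot_le (hdim : topologicalKrullDim X ≤ 1)
    {r : ℕ} {E : X.Modules} (hE : FlatMod.IsFinLocFreeOfRank r E) {M : X.Modules} (hM : TFOne.IsTF1 X M)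
    {Q : X.Modules} (hQ : Coh.IsCoh Q) (p : M ⟶ Q) [Epi p] :
    ∃ (T : Set X) (_ : IsClosed T) (G : X.Modules) (π : M ⟶ G), TFOne.IsQuotOn X M T G π ∧
      (∀ η ∈ genericPoints X, η ∈ T ↔ ∃ v : (St η).obj Q, v ≠ 0) ∧
      ((∃ η ∈ genericPoints X, η ∈ T) → VecSt.IsSubcurve X T) ∧
      Curv2.euler k X (CohB1.tensorMod G E) ≤ Curv2.euler k X (CohB1.tensorMod Q E) := by
  haveI := isNoetherian_of_proper (X := X) k
  have hM1 := leOne_of_isRkOne hM.2.2
  obtain ⟨hTc, G, π, hG⟩ := exists_quot_components k hM fun C => ∀ η ∈ genericPoints X,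
    closure ({η} : Set X) = C → ∃ v : (St η).obj Q, v ≠ 0
  haveI := hG.1
  let T := ⋃₀ {C | C ∈ irreducibleComponents (X : Type u) ∧ ∀ η ∈ genericPoints X,
    closure ({η} : Set X) = C → ∃ v : (St η).obj Q, v ≠ 0}
  have hmem : ∀ η ∈ genericPoints X, η ∈ T ↔ ∃ v : (St η).obj Q, v ≠ 0 := fun η hη => by
    refine (mem_sUnion_components hη).trans ⟨fun h => h η hη rfl, fun h η' hη' he => ?_⟩
    rw [closure_eq_iff hη] at he
    exact he ▸ h
  have hpinj : ∀ η ∈ genericPoints X, η ∈ T → ∀ m : (St η).obj M, (St η).map p m = 0 → m = 0 := by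
    intro η hη hηT m hm
    by_contra hne
    obtain ⟨v, hv⟩ := (hmem η hη).1 hηT
    obtain ⟨m', rfl⟩ := stalk_surjective p η v
    obtain ⟨c, rfl⟩ := hM1 η hη m m' hne
    exact hv (by rw [map_smul, hm, smul_zero])
  obtain ⟨q, hq⟩ := exists_desc p π fun x m hm => (map_eq_zero_iff hM1 hG m).2 fun η hη hηT hs =>
    hpinj η hη hηT _ (by rw [← spec_map, hm, spec_zero])
  haveI : Epi q := by
    haveI : Epi (p ≫ q) := by rw [hq]; infer_instance
    exact epi_of_epi p q
  let S : ShortComplex X.Modules := ShortComplex.mk (kernel.ι q) q (kernel.condition q)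
  have hS : S.ShortExact := { exact := ShortComplex.exact_kernel q }
  have hKc : Coh.IsCoh (kernel q) := isCoh_kernel q hQ hG.2.1.1
  have hK0 : ∀ η ∈ genericPoints X, ∀ v : (St η).obj (kernel q), v = 0 := fun η hη v => by
    apply stalk_injective (kernel.ι q) η
    rw [map_zero]
    have hv : (St η).map q ((St η).map (kernel.ι q) v) = 0 := by
      rw [← map_comp_apply, kernel.condition, map_zero_apply]
    by_cases hηT : η ∈ T
    · obtain ⟨m, hm⟩ := stalk_surjective p η ((St η).map (kernel.ι q) v)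
      rw [← hm, ← map_comp_apply, hq] at hv
      rw [← hm, quot_injective_generic hM1 hG hη hηT hv, map_zero]
    · by_contra hne
      exact hηT ((hmem η hη).2 ⟨_, hne⟩)
  obtain ⟨hK, -⟩ := euler_small k hdim hKc hK0
  obtain ⟨S0, c, hS0, hdeg, -⟩ := exists_degree_sum' k hdim hE
  have hKdeg : degFun k r E (kernel q) = 0 := by
    rw [hdeg _ hKc]
    refine Finset.sum_eq_zero fun ξ hξ => ?_
    rw [mult_eq_zero, zero_smul]
    exact fun h => h (subsingleton_of_forall_eq 0 (hK0 ξ ((hS0 ξ).1 hξ)))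
  have hadd := degFun_add k hE S hS hKc hQ hG.2.1
  have hχ : Curv2.euler k X Q = Curv2.euler k X (kernel q) + Curv2.euler k X G := by
    haveI := isSeparated_of_proper (X := X) k
    exact euler_additive k X S hS hKc hQ hG.2.1
  have e : ∀ N : X.Modules, Curv2.euler k X (CohB1.tensorMod N E) = degFun k r E N + r * Curv2.euler k X N :=
    fun N => by rw [degFun]; ring
  change degFun k r E Q = degFun k r E (kernel q) + degFun k r E G at hadd
  refine ⟨T, hTc, G, π, hG, hmem, fun h => isSubcurve_components h, ?_⟩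
  rw [e, e, hadd, hKdeg, hχ, mul_add]
  nlinarith [mul_nonneg (Int.natCast_nonneg r) hK]

/-- Strictness at a point forces positivity of quotients injective there. -/
theorem euler_tensor_pos (hdim : topologicalKrullDim X ≤ 1)
    {r : ℕ} {E : X.Modules} (hE : FlatMod.IsFinLocFreeOfRank r E) {M : X.Modules} {pt : X}
    (hM : TFOne.IsQuasistableAtPt X k (X ↘ Spec (CommRingCat.of k)) M E r pt)
    {Q : X.Modules} (hQ : Coh.IsCoh Q) (θ : M ⟶ Q) [Epi θ]
    (hinj : ∀ v, (St pt).map θ v = 0 → v = 0) (hne : ¬ IsIso θ) :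
    0 < Curv2.euler k X (CohB1.tensorMod Q E) := by
  haveI := isNoetherian_of_proper (X := X) k
  have hM0 := hM.1.1
  obtain ⟨T, hT, G, π, hG, hmem, hsub, hle⟩ := exists_quot_le k hdim hE hM0 hQ θ
  obtain ⟨η, hη, hs⟩ := exists_genericPoint_specializes pt
  obtain ⟨e⟩ := hM0.2.2 η hη
  have hm : e.symm 1 ≠ 0 := fun h => one_ne_zero ((e.apply_symm_apply 1).symm.trans (by rw [h, map_zero]))
  have hηT : η ∈ T := by
    refine (hmem η hη).2 ⟨(St η).map θ (e.symm 1), fun h0 => hm ?_⟩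
    obtain ⟨w, hw⟩ := exists_kernel_lift θ _ h0
    have hKc : Coh.IsCoh (kernel θ) := isCoh_kernel θ hM0.1 hQ.1
    haveI := hKc.1
    have hns : pt ∉ CohB1.support (kernel θ) := fun h => h (subsingleton_of_forall_eq 0 fun w' =>
      stalk_injective (kernel.ι θ) _ ((hinj _ (by rw [← map_comp_apply, kernel.condition, map_zero_apply])).trans
        (map_zero _).symm))
    have hηs : η ∉ CohB1.support (kernel θ) := fun h =>
      hns (hs.mem_closed (isClosed_support _ (locallyFinGen_of_isFT _ hKc.2)) h)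
    haveI : Subsingleton ((kernel θ).presheaf.stalk η) := not_not.1 hηs
    rw [← hw, Subsingleton.elim (α := (kernel θ).presheaf.stalk η) w 0, map_zero]
  have huniv : T ≠ Set.univ := fun hu => hne (by
    haveI : Mono θ := mono_of_stalks_injective _ fun x => (injective_iff_map_eq_zero _).2 fun m hm =>
      eq_zero_of_generic hM0.1.1 hM0.2.1 m fun ζ hζ hs' => by
        by_contra hne'
        obtain ⟨v, hv⟩ := (hmem ζ hζ).1 (hu.ge trivial)
        obtain ⟨m', rfl⟩ := stalk_surjective θ ζ v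
        obtain ⟨c, rfl⟩ := leOne_of_isRkOne hM0.2.2 ζ hζ (spec M hs' m) m' hne'
        exact hv (by rw [map_smul, ← spec_map, hm, spec_zero, smul_zero])
    exact isIso_of_mono_of_epi θ)
  have hpT : pt ∈ T := closure_minimal (Set.singleton_subset_iff.2 hηT) hT (specializes_iff_mem_closure.1 hs)
  have hpos := hM.2 T hT (hsub ⟨η, hη, hηT⟩) huniv hpT G π hG
  rw [rBeta_eq_euler_tensor k hdim hE (leOne_of_isRkOne hM0.2.2) hT hG] at hpos
  exact hpos.trans_le hle

theorem isQuasistableAtPt_congr {M M' E E' : X.Modules} {r : ℕ} {pt : X} (e : M ≅ M') (e' : E ≅ E')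
    (h : TFOne.IsQuasistableAtPt X k (X ↘ Spec (CommRingCat.of k)) M E r pt) :
    TFOne.IsQuasistableAtPt X k (X ↘ Spec (CommRingCat.of k)) M' E' r pt :=
  ⟨isSemistable_congr k e e' h.1, fun Z hZ hZs hne hp G π hG => by
    rw [← rBeta_congr k hZ e']
    exact h.2 Z hZ hZs hne hp G (e.hom ≫ π) (isQuotOn_of_iso e hG)⟩

/-- Among the subcurves through a component with vanishing `β` there is a smallest one. -/
theorem exists_min_zero (hpure : ∀ C ∈ irreducibleComponents (X : Type u), topologicalKrullDim C = 1)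
    {r : ℕ} {E : X.Modules} (hE : FlatMod.IsFinLocFreeOfRank r E) {M : X.Modules}
    (hss : TFOne.IsSemistable X k (X ↘ Spec (CommRingCat.of k)) M E r)
    (h0 : (r : ℤ) * Curv2.euler k X M + Curv2.deg k X E r = 0) {W : Set X}
    (hW : W ∈ irreducibleComponents (X : Type u))
    (hex : ∃ (T : Set X) (hT : IsClosed T) (G : X.Modules) (π : M ⟶ G), VecSt.IsSubcurve X T ∧ T ≠ Set.univ ∧
      W ⊆ T ∧ TFOne.IsQuotOn X M T G π ∧ TFOne.rBeta X k (X ↘ Spec (CommRingCat.of k)) T hT E r G ≤ 0) :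
    ∃ (Y : Set X) (hY : IsClosed Y) (G : X.Modules) (π : M ⟶ G), VecSt.IsSubcurve X Y ∧ Y ≠ Set.univ ∧
      W ⊆ Y ∧ TFOne.IsQuotOn X M Y G π ∧ TFOne.rBeta X k (X ↘ Spec (CommRingCat.of k)) Y hY E r G = 0 ∧
      ∀ (T : Set X) (hT : IsClosed T), VecSt.IsSubcurve X T → W ⊆ T → ∀ (G' : X.Modules) (π' : M ⟶ G'),
        TFOne.IsQuotOn X M T G' π' → TFOne.rBeta X k (X ↘ Spec (CommRingCat.of k)) T hT E r G' = 0 → Y ⊆ T := by
  classical
  haveI := isNoetherian_of_proper (X := X) k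
  let β := TFOne.rBeta X k (X ↘ Spec (CommRingCat.of k))
  have hM1 := leOne_of_isRkOne hss.1.2.2
  let P : Set X → Prop := fun T => VecSt.IsSubcurve X T ∧ W ⊆ T ∧ ∃ (hT : IsClosed T) (G : X.Modules) (π : M ⟶ G),
    TFOne.IsQuotOn X M T G π ∧ β T hT E r G = 0
  have hfin : {T : Set X | P T}.Finite := by
    refine (NoetherianSpace.finite_irreducibleComponents (α := X)).powerset.image
      (fun A : Set (Set X) => Set.sUnion A) |>.subset ?_
    rintro _ ⟨⟨A, hA, -, rfl⟩, -, -⟩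
    exact ⟨A, hA, rfl⟩
  obtain ⟨T₀, hT₀, G₀, π₀, hT₀s, hT₀ne, hWT₀, hG₀, hβ₀⟩ := hex
  have hP₀ : P T₀ := ⟨hT₀s, hWT₀, hT₀, G₀, π₀, hG₀, le_antisymm hβ₀ (rBeta_nonneg k hE hss h0 hT₀ hT₀s hG₀)⟩
  have hinter : ∀ A B, P A → P B → ∃ V, P V ∧ V ⊆ A ∧ V ⊆ B := by
    rintro A B ⟨hAs, hWA, hA, GA, πA, hGA, hβA⟩ ⟨hBs, hWB, hB, GB, πB, hGB, hβB⟩
    obtain ⟨hVc, GV, πV, hGV⟩ := exists_quot_components k hss.1 (fun C => C ⊆ A ∩ B)
    obtain ⟨GU, πU, hGU⟩ := exists_quot_subcurve k hss.1 (hA.union hB) (isSubcurve_union hAs hBs)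
    have mV : ∀ η ∈ genericPoints X,
        η ∈ ⋃₀ {C | C ∈ irreducibleComponents (X : Type u) ∧ C ⊆ A ∩ B} ↔ η ∈ A ∧ η ∈ B := fun η hη => by
      rw [mem_sUnion_components hη, closure_subset_iff_mem (hA.inter hB), Set.mem_inter_iff]
    have hsub : W ⊆ ⋃₀ {C | C ∈ irreducibleComponents (X : Type u) ∧ C ⊆ A ∩ B} :=
      Set.subset_sUnion_of_mem ⟨hW, Set.subset_inter hWA hWB⟩
    have hVs : VecSt.IsSubcurve X (⋃₀ {C | C ∈ irreducibleComponents (X : Type u) ∧ C ⊆ A ∩ B}) :=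
      ⟨{C | C ∈ irreducibleComponents (X : Type u) ∧ C ⊆ A ∩ B}, fun C hC => hC.1, ⟨W, hW, Set.subset_inter hWA hWB⟩, rfl⟩
    have hχ := euler_union_le k (dim_le_one_of_pure hpure) hM1 hGA hGB hGU hGV (fun η _ => Iff.rfl) mV
    have hd := degOn_add k hpure hE hA hB (hA.union hB) hVc (fun η _ => Iff.rfl) mV
    have h1 := rBeta_nonneg k hE hss h0 hVc hVs hGV
    have h2 := rBeta_nonneg k hE hss h0 (hA.union hB) (isSubcurve_union hAs hBs) hGU
    refine ⟨_, ⟨hVs, hsub, hVc, GV, πV, hGV, ?_⟩, ?_, ?_⟩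
    · show TFOne.rBeta X k (X ↘ Spec (CommRingCat.of k)) _ hVc E r GV = 0
      simp only [β, rBeta_eq] at hβA hβB h1 h2 ⊢
      nlinarith [mul_le_mul_of_nonneg_left hχ (Int.natCast_nonneg r)]
    · exact Set.sUnion_subset fun C hC => hC.2.trans Set.inter_subset_left
    · exact Set.sUnion_subset fun C hC => hC.2.trans Set.inter_subset_right
  obtain ⟨Y, hY, hmin⟩ := hfin.exists_minimal ⟨T₀, hP₀⟩
  have hall : ∀ T, P T → Y ⊆ T := fun T hT => by
    obtain ⟨V, hV, hVY, hVT⟩ := hinter Y T hY hT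
    exact (hmin hV hVY).trans hVT
  obtain ⟨hYs, hWY, hYc, G, π, hG, hβ⟩ := hY
  exact ⟨Y, hYc, G, π, hYs, fun hu => hT₀ne (Set.eq_univ_of_univ_subset (hu ▸ hall T₀ hP₀)), hWY, hG, hβ,
    fun T hT hTs hWT G' π' hG' h => hall T ⟨hTs, hWT, hT, G', π', hG', h⟩⟩

/-- Points with domain stalks lie on a single component. -/
theorem eq_of_specializes_of_isDomain {Z : Scheme.{u}} {x η η' : Z} [IsDomain (Z.presheaf.stalk x)]
    (hη : η ∈ genericPoints Z) (hη' : η' ∈ genericPoints Z) (h : η ⤳ x) (h' : η' ⤳ x) : η = η' := by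
  obtain ⟨P, hP⟩ := CycLim28.exists_fromSpecStalk_eq h
  obtain ⟨Q, hQ⟩ := CycLim28.exists_fromSpecStalk_eq h'
  let o : PrimeSpectrum (Z.presheaf.stalk x) := ⟨⊥, Ideal.isPrime_bot⟩
  have hP' : Z.fromSpecStalk x o ⤳ η :=
    hP ▸ ((PrimeSpectrum.le_iff_specializes o P).1 bot_le).map (Z.fromSpecStalk x).continuous
  have hQ' : Z.fromSpecStalk x o ⤳ η' :=
    hQ ▸ ((PrimeSpectrum.le_iff_specializes o Q).1 bot_le).map (Z.fromSpecStalk x).continuous
  exact (eq_of_specializes_generic hη hP').symm.trans (eq_of_specializes_generic hη' hQ')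

/-- The closed fibre is regular along a smooth open set. -/
theorem isDomain_stalk_fibre {R : Type u} [CommRing R] [IsLocalRing R] {W Ws : Scheme.{u}}
    {f : W ⟶ Spec (CommRingCat.of R)} {i : Ws ⟶ W} {q : Ws ⟶ Spec (CommRingCat.of (IsLocalRing.ResidueField R))}
    (hsq : IsPullback i q f (Spec.map (CommRingCat.ofHom (IsLocalRing.residue R)))) (U : W.Opens)
    [Smooth (U.ι ≫ f)] {x : Ws} (hx : i x ∈ U) : IsDomain (Ws.presheaf.stalk x) := by
  haveI : Smooth ((i ⁻¹ᵁ U).ι ≫ q) :=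
    MorphismProperty.of_isPullback ((isPullback_morphismRestrict i U).paste_vert hsq) inferInstance
  haveI := VarietyLib.isRegularLocalRing_stalk_of_smooth (IsLocalRing.ResidueField R) _ ((i ⁻¹ᵁ U).ι ≫ q) ⟨x, hx⟩
  haveI := CAlgH3.isDomain_of_isRegularLocalRing (((i ⁻¹ᵁ U).toScheme).presheaf.stalk ⟨x, hx⟩)
  exact MulEquiv.isDomain _ (asIso ((i ⁻¹ᵁ U).ι.stalkMap ⟨x, hx⟩)).commRingCatIsoToRingEquiv.toMulEquiv

end Groth.Agent.TF7
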